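import Mathlib
import Groth.Agent.SchDescent.Amitsur

/-!
# Galois extensions of rings presented by free transitive actions on geometric points
-/

set_option autoImplicit false
universe u v

open scoped TensorProduct Polynomial

namespace Groth.Agent.GalTorsor

variable (A : Type u) [CommRing A] {B : Type u} [CommRing B] [Algebra A B]
  (G : Type v) [Group G] [MulSemiringAction G B] [SMulCommClass G A B]

variable (B) in
/-- `G` permutes the geometric points over each geometric point of `A` simply transitively -/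
def IsTorsor : Prop :=
  ∀ (Ω : Type u) [Field Ω] [IsAlgClosed Ω] (φ₁ φ₂ : B →+* Ω),
    φ₁.comp (algebraMap A B) = φ₂.comp (algebraMap A B) → ∃! g : G, ∀ b, φ₁ (g • b) = φ₂ b

variable {G}

/-- `b ⊗ b' ↦ (g • b) * b'` -/
noncomputable def mu (g : G) : B ⊗[A] B →ₐ[A] B :=
  Algebra.TensorProduct.lift (MulSemiringAction.toAlgHom A B g) (AlgHom.id A B) fun _ _ => .all _ _

theorem mu_tmul (g : G) (b b' : B) : mu A g (b ⊗ₜ b') = (g • b) * b' := by
  simp [mu]

theorem exists_geomHom {R : Type u} [CommRing R] (P : Ideal R) [P.IsPrime] :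
    ∃ (Ω : Type u) (_ : Field Ω) (_ : IsAlgClosed Ω) (φ : R →+* Ω), RingHom.ker φ = P := by
  refine ⟨AlgebraicClosure P.ResidueField, inferInstance, inferInstance,
    (algebraMap P.ResidueField (AlgebraicClosure P.ResidueField)).comp (algebraMap R P.ResidueField), ?_⟩
  rw [RingHom.ker_comp_of_injective _ (RingHom.injective _), Ideal.ker_algebraMap_residueField]

theorem eq_zero_of_idem {R : Type u} [CommRing R] {e : R} (he : e * e = e)
    (h : ∀ (Ω : Type u) [Field Ω] [IsAlgClosed Ω] (φ : R →+* Ω), φ e = 0) : e = 0 := by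
  have hn : IsNilpotent e := nilpotent_iff_mem_prime.2 fun P hP => by
    haveI := hP
    obtain ⟨Ω, _, _, φ, hφ⟩ := exists_geomHom P
    rw [← hφ]; exact h Ω φ
  obtain ⟨n, hn⟩ := hn
  rcases n with _ | n
  · rw [pow_zero] at hn
    rw [← mul_one e, hn, mul_zero]
  · rwa [IsIdempotentElem.pow_succ_eq n he] at hn

section Datum

variable [Algebra.FormallyUnramified A B] [Algebra.EssFiniteType A B]

open Algebra.FormallyUnramified

theorem elem_mul_tmul (a : B) :
    (elem A B) * (a ⊗ₜ[A] 1) = elem A B * (1 ⊗ₜ[A] a) := by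
  rw [mul_comm, mul_comm (elem A B) (1 ⊗ₜ[A] a)]
  exact (one_tmul_mul_elem (R := A) (S := B) a).symm

theorem elem_mul (w : B ⊗[A] B) : elem A B * w = elem A B * (1 ⊗ₜ[A] Algebra.TensorProduct.lmul' A w) := by
  induction w with
  | zero => simp
  | tmul b b' =>
    rw [Algebra.TensorProduct.lmul'_apply_tmul,
      show b ⊗ₜ[A] b' = (b ⊗ₜ[A] (1 : B)) * ((1 : B) ⊗ₜ[A] b') by simp, ← mul_assoc, elem_mul_tmul,
      mul_assoc]
    simp
  | add x y hx hy => simp only [mul_add, hx, hy, map_add, TensorProduct.tmul_add]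

theorem elem_idem : elem A B * elem A B = elem A B := by
  rw [elem_mul, lmul_elem, ← Algebra.TensorProduct.one_def, mul_one]

theorem mu_one (w : B ⊗[A] B) : mu A (1 : G) w = Algebra.TensorProduct.lmul' A w := by
  induction w with
  | zero => simp
  | tmul b b' => simp [mu_tmul]
  | add x y hx hy => simp only [map_add, hx, hy]

variable (hG : IsTorsor A B G)
include hG

theorem mu_elem [DecidableEq G] (g : G) : mu A g (elem A B) = if g = 1 then 1 else 0 := by
  split_ifs with h
  · rw [h, mu_one, lmul_elem]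
  · refine eq_zero_of_idem (by rw [← map_mul, elem_idem]) fun Ω _ _ φ => ?_
    have hex : ∃ a, φ (g • a) ≠ φ a := by
      by_contra! hne
      obtain ⟨k, -, hk⟩ := hG Ω φ φ rfl
      exact h ((hk g hne).trans (hk 1 fun b => by rw [one_smul]).symm)
    obtain ⟨a, ha⟩ := hex
    have h1 := congrArg (mu A g) (elem_mul_tmul A (B := B) a)
    rw [map_mul, map_mul, mu_tmul, mu_tmul, mul_one, smul_one, one_mul] at h1
    have h2 : φ (mu A g (elem A B)) * (φ (g • a) - φ a) = 0 := by
      rw [mul_sub, ← map_mul, ← map_mul, h1, sub_self]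
    exact (mul_eq_zero.1 h2).resolve_right (sub_ne_zero.2 ha)

variable [Fintype G]

theorem exists_chr : ∃ (s : Finset (B × B)), ∀ g : G,
    (g = 1 → ∑ i ∈ s, (g • i.1) * i.2 = 1) ∧ (g ≠ 1 → ∑ i ∈ s, (g • i.1) * i.2 = 0) := by
  classical
  obtain ⟨s, hs⟩ := TensorProduct.exists_finset (elem A B)
  refine ⟨s, fun g => ?_⟩
  have h := mu_elem A hG g
  rw [hs, map_sum] at h
  simp only [mu_tmul] at h
  exact ⟨fun hg => by rw [h, if_pos hg], fun hg => by rw [h, if_neg hg]⟩

theorem eq_zero_of_mu (w : B ⊗[A] B) (hw : ∀ g : G, mu A g w = 0) : w = 0 := by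
  classical
  let τ : G → (B ⊗[A] B →ₐ[A] B ⊗[A] B) := fun g =>
    Algebra.TensorProduct.map (MulSemiringAction.toAlgHom A B g⁻¹) (AlgHom.id A B)
  let e : G → B ⊗[A] B := fun g => τ g (elem A B)
  have hmu : ∀ h g w, mu A h (τ g w) = mu A (h * g⁻¹) w := fun h g w => by
    induction w with
    | zero => simp
    | tmul b b' => simp [τ, mu_tmul, mul_smul]
    | add x y hx hy => simp only [map_add, hx, hy]
  have habs : ∀ g w, e g * w = e g * ((1 : B) ⊗ₜ[A] mu A g w) := fun g w => by
    induction w with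
    | zero => simp
    | tmul b b' =>
      have h1 := congrArg (τ g) (elem_mul A (B := B) ((g • b) ⊗ₜ[A] b'))
      simp only [map_mul, τ, Algebra.TensorProduct.map_tmul, map_one, AlgHom.coe_id, id_eq,
        Algebra.TensorProduct.lmul'_apply_tmul, MulSemiringAction.toAlgHom_apply, inv_smul_smul] at h1
      simpa [e, τ, mu_tmul] using h1
    | add x y hx hy => simp only [mul_add, hx, hy, map_add, TensorProduct.tmul_add]
  have hs : 1 - ∑ g, e g = 0 := by
    set s := 1 - ∑ g, e g with hsdef
    have hμs : ∀ h : G, mu A h s = 0 := fun h => by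
      rw [hsdef, map_sub, map_one, map_sum]
      simp only [e, hmu, mu_elem A hG, mul_inv_eq_one]
      simp
    refine eq_zero_of_idem ?_ fun Ω _ _ ψ => ?_
    · conv_lhs => arg 1; rw [hsdef]
      rw [sub_mul, one_mul, Finset.sum_mul,
        Finset.sum_eq_zero fun g _ => by rw [habs, hμs, TensorProduct.tmul_zero, mul_zero], sub_zero]
    · let φ₁ : B →+* Ω := ψ.comp Algebra.TensorProduct.includeLeftRingHom
      let φ₂ : B →+* Ω := ψ.comp (Algebra.TensorProduct.includeRight (R := A) (A := B) (B := B)).toRingHom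
      obtain ⟨g, hg, -⟩ := hG Ω φ₂ φ₁ (by
        ext a
        simp [φ₁, φ₂, Algebra.TensorProduct.tmul_one_eq_one_tmul])
      have hψ : ∀ w, ψ w = φ₂ (mu A g w) := fun w => by
        induction w with
        | zero => simp
        | tmul b b' =>
          rw [mu_tmul, map_mul, hg, show b ⊗ₜ[A] b' = (b ⊗ₜ[A] (1 : B)) * ((1 : B) ⊗ₜ[A] b') by simp, map_mul]
          rfl
        | add x y hx hy => simp only [map_add, hx, hy]
      rw [hψ, hμs, map_zero]
  rw [← one_mul w, sub_eq_zero.1 hs, Finset.sum_mul]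
  exact Finset.sum_eq_zero fun g _ => by rw [habs, hw, TensorProduct.tmul_zero, mul_zero]

variable [Module.FaithfullyFlat A B]

/-- the invariants are the base ring -/
theorem mem_range_of_fixed {z : B} (hz : ∀ g : G, g • z = z) : z ∈ (algebraMap A B).range := by
  have h : z ⊗ₜ[A] (1 : B) = (1 : B) ⊗ₜ[A] z := sub_eq_zero.1 (eq_zero_of_mu A hG _ fun g => by
    simp [mu_tmul, hz])
  have h2 := congrArg (LinearMap.lTensor B (TensorProduct.rid A B).symm.toLinearMap) h
  simp only [LinearMap.lTensor_tmul, LinearEquiv.coe_coe, TensorProduct.rid_symm_apply] at h2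
  obtain ⟨a, ha⟩ := SchDescent.mem_range_of_amitsur A B A (z ⊗ₜ (1 : A)) (by simpa using h2.symm)
  refine ⟨a, ?_⟩
  have h3 := congrArg (TensorProduct.rid A B) ha
  simpa [Algebra.smul_def] using h3

theorem exists_trace_eq (z : B) : ∃ a, algebraMap A B a = ∑ g : G, g • z :=
  mem_range_of_fixed A hG fun h => by
    rw [Finset.smul_sum]
    simp only [smul_smul]
    exact Equiv.sum_comp (Equiv.mulLeft h) fun g => g • z

theorem exists_trace_one : ∃ c : B, ∑ g : G, g • c = 1 := by
  classical
  obtain ⟨s, hs⟩ := exists_chr A hG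
  choose T hT using exists_trace_eq A hG
  let J : Ideal A := Ideal.span (Set.range T)
  have h1 : (1 : B) ∈ J.map (algebraMap A B) := by
    have h : ∑ i ∈ s, algebraMap A B (T i.1) * i.2 = 1 := by
      simp only [hT, Finset.sum_mul]
      rw [Finset.sum_comm, Finset.sum_eq_single (1 : G) (fun g _ hg => (hs g).2 hg) (by simp)]
      exact (hs 1).1 rfl
    rw [← h]
    exact Ideal.sum_mem _ fun i _ =>
      Ideal.mul_mem_right _ _ (Ideal.mem_map_of_mem _ (Ideal.subset_span ⟨i.1, rfl⟩))
  have h2 : (1 : A) ∈ J := by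
    rw [← Ideal.comap_map_eq_self_of_faithfullyFlat (B := B) J, Ideal.mem_comap, map_one]
    exact h1
  obtain ⟨r, hr⟩ := Finsupp.mem_ideal_span_range_iff_exists_finsupp.1 h2
  refine ⟨∑ z ∈ r.support, r z • z, ?_⟩
  have h3 := congrArg (algebraMap A B) hr
  rw [map_one, Finsupp.sum, map_sum] at h3
  rw [← h3]
  simp only [Finset.smul_sum, map_mul, hT, Finset.mul_sum]
  rw [Finset.sum_comm]
  refine Finset.sum_congr rfl fun z _ => Finset.sum_congr rfl fun g _ => ?_
  rw [smul_comm, Algebra.smul_def]

open Polynomial in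
/-- a generator with pairwise unit differences of conjugates -/
theorem bijective_gen (b : B) (hb : ∀ g : G, g ≠ 1 → IsUnit (g • b - b)) (f : A[X]) (hf : f.Monic)
    (hdeg : f.natDegree = Fintype.card G) (hfb : aeval b f = 0) :
    Function.Surjective (aeval (R := A) b) ∧ ∀ r : A[X], aeval b r = 0 → f ∣ r := by
  classical
  have hdiff : ∀ g h : G, g ≠ h → IsUnit (g • b - h • b) := fun g h hgh => by
    have h1 := (hb (h⁻¹ * g) (by rwa [ne_eq, inv_mul_eq_one, eq_comm])).map (MulSemiringAction.toRingHom G B h)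
    simpa [smul_sub, smul_smul] using h1
  constructor
  · intro z
    let q : B[X] := ∏ h ∈ Finset.univ.erase (1 : G), (X - C (h • b))
    have hq0 : ∀ g : G, g ≠ 1 → q.eval (g • b) = 0 := fun g hg => by
      rw [eval_prod]
      exact Finset.prod_eq_zero (Finset.mem_erase.2 ⟨hg, Finset.mem_univ g⟩) (by simp)
    have hu : IsUnit (q.eval b) := by
      rw [eval_prod]
      refine IsUnit.prod_iff.2 fun h hh => ?_
      rw [eval_sub, eval_X, eval_C]
      simpa using hdiff 1 h (Ne.symm (Finset.mem_erase.1 hh).1)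
    choose T hT using exists_trace_eq A hG
    obtain ⟨v, hv⟩ : ∃ v, v * q.eval b = 1 := ⟨_, hu.val_inv_mul⟩
    let w : ℕ → B := fun k => z * v * q.coeff k
    refine ⟨∑ k ∈ Finset.range (q.natDegree + 1), C (T (w k)) * X ^ k, ?_⟩
    simp only [map_sum, map_mul, aeval_C, map_pow, aeval_X, hT, Finset.sum_mul]
    rw [Finset.sum_comm, Finset.sum_eq_single (1 : G) ?_ (by simp)]
    · simp only [one_smul, w, mul_assoc, ← Finset.mul_sum, ← eval_eq_sum_range]
      rw [hv, mul_one]
    · intro g _ hg
      have h1 : ∑ k ∈ Finset.range (q.natDegree + 1), (g • w k) * b ^ k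
          = g • (z * v * q.eval (g⁻¹ • b)) := by
        rw [eval_eq_sum_range, Finset.mul_sum, Finset.smul_sum]
        refine Finset.sum_congr rfl fun k _ => ?_
        simp [w, smul_mul', smul_pow', mul_assoc]
      rw [h1, hq0 _ (inv_ne_one.2 hg), mul_zero, smul_zero]
  · intro r hr
    have hinj : Function.Injective (algebraMap A B) := FaithfulSMul.algebraMap_injective A B
    have hmod : aeval b (r %ₘ f) = 0 := by
      rwa [modByMonic_eq_sub_mul_div, map_sub, map_mul, hfb, zero_mul, sub_zero]
    rw [← modByMonic_eq_zero_iff_dvd hf]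
    refine (Polynomial.map_eq_zero_iff hinj).1 ?_
    by_contra hne
    haveI : Nontrivial A := by
      by_contra h
      rw [not_nontrivial_iff_subsingleton] at h
      exact hne (by rw [Subsingleton.elim (r %ₘ f) 0, Polynomial.map_zero])
    haveI : Nontrivial B := hinj.nontrivial
    have hroot : ∀ g : G, ((r %ₘ f).map (algebraMap A B)).IsRoot (g • b) := fun g => by
      have h1 := congrArg (g • ·) hmod
      rw [smul_zero] at h1
      rw [IsRoot.def, eval_map_algebraMap]
      exact ((aeval_algHom_apply (MulSemiringAction.toAlgHom A B g) b _).trans h1 :)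
    have hdvd : (∏ g : G, (X - C (g • b))) ∣ (r %ₘ f).map (algebraMap A B) :=
      Finset.prod_dvd_of_coprime (fun g _ h _ hgh => isCoprime_X_sub_C_of_isUnit_sub (hdiff g h hgh))
        fun g _ => dvd_iff_isRoot.2 (hroot g)
    have hm : (∏ g : G, (X - C (g • b))).Monic := monic_prod_of_monic _ _ fun g _ => monic_X_sub_C _
    rw [← modByMonic_eq_zero_iff_dvd hm, (modByMonic_eq_self_iff hm).2] at hdvd
    · exact hne hdvd
    calc _ ≤ (r %ₘ f).degree := degree_map_le
      _ < f.degree := degree_modByMonic_lt r hf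
      _ = _ := by
        rw [degree_eq_natDegree hf.ne_zero, hdeg, degree_eq_natDegree hm.ne_zero,
          natDegree_prod_of_monic _ _ fun g _ => monic_X_sub_C _]
        simp

end Datum

end Groth.Agent.GalTorsor
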