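import Groth.Agent.GalTorsor.Ring
import Groth.Prelude.Def_SGA1t

/-!
# The ring of a principal cover of an affine scheme
-/

set_option autoImplicit false
set_option linter.style.haveILetI false
set_option backward.isDefEq.respectTransparency false
universe u v

open CategoryTheory AlgebraicGeometry

namespace Groth.Agent.GalTorsor

/-- the hom underlying an automorphism of a cover -/
abbrev act {Y : Scheme.{u}} {G : Type v} [Monoid G] {P : FEt.Cat Y} (ρ : G →* Aut P) (g : G) : P.left ⟶ P.left :=
  (ρ g).hom.left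

theorem exists_ring (A : Type u) [CommRing A] (G : Type v) [CommGroup G]
    (P : FEt.Cat (Spec (CommRingCat.of A))) (ρ : G →* Aut P) (hP : SGA1t.IsPrincipal G P ρ) :
    ∃ (B : Type u) (_ : CommRing B) (_ : Algebra A B) (_ : MulSemiringAction G B) (_ : SMulCommClass G A B)
      (_ : Algebra.FormallyUnramified A B) (_ : Algebra.EssFiniteType A B) (_ : Module.FaithfullyFlat A B)
      (_ : Module.Finite A B)
      (κ : P.left ≅ Spec (CommRingCat.of B)),
      κ.hom ≫ Spec.map (CommRingCat.ofHom (algebraMap A B)) = P.hom ∧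
      (∀ g : G, act ρ g ≫ κ.hom =
        κ.hom ≫ Spec.map (CommRingCat.ofHom (MulSemiringAction.toRingHom G B g))) ∧
      IsTorsor A B G := by
  let q : P.left ⟶ Spec (CommRingCat.of A) := P.hom
  haveI hfin : IsFinite q := P.prop.1
  haveI het : Etale q := P.prop.2
  haveI : IsAffine P.left := isAffine_of_isAffineHom q
  let B : Type u := Γ(P.left, ⊤)
  let φ : CommRingCat.of A ⟶ Γ(P.left, ⊤) := (Scheme.ΓSpecIso (CommRingCat.of A)).inv ≫ q.appTop
  have hφ : P.left.isoSpec.hom ≫ Spec.map φ = q := by
    simp only [φ, Spec.map_comp, Scheme.isoSpec_hom]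
    rw [← Scheme.toSpecΓ_naturality_assoc, toSpecΓ_SpecMap_ΓSpecIso_inv, Category.comp_id]
  haveI hfin' : IsFinite (Spec.map φ) := by
    rw [← MorphismProperty.cancel_left_of_respectsIso @IsFinite P.left.isoSpec.hom, hφ]; exact hfin
  haveI het' : Etale (Spec.map φ) := by
    rw [← MorphismProperty.cancel_left_of_respectsIso @Etale P.left.isoSpec.hom, hφ]; exact het
  letI algB : Algebra A B := φ.hom.toAlgebra
  haveI : Module.Finite A B := (IsFinite.SpecMap_iff φ).1 hfin'
  haveI : Algebra.Etale A B := (HasRingHomProperty.Spec_iff (P := @Etale)).1 het'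
  have hact : ∀ g, act ρ g ≫ q = q := fun g => Over.w (ρ g).hom.hom
  have hone : act ρ 1 = 𝟙 _ := by simp only [act, map_one]; rfl
  have hmul : ∀ g h, act ρ (g * h) = act ρ h ≫ act ρ g := fun g h => by simp only [act, map_mul]; rfl
  letI : MulSemiringAction G B :=
    { smul := fun g b => (act ρ g).appTop.hom b
      one_smul := fun b => by
        show (act ρ 1).appTop.hom b = b
        rw [hone]; simp
      mul_smul := fun g h b => by
        show (act ρ (g * h)).appTop.hom b = (act ρ g).appTop.hom ((act ρ h).appTop.hom b)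
        rw [mul_comm, hmul]; simp
      smul_zero := fun g => map_zero _
      smul_add := fun g => map_add _
      smul_one := fun g => map_one _
      smul_mul := fun g => map_mul _ }
  have hfix : ∀ (g : G) (a : A), g • (φ.hom a : B) = φ.hom a := fun g a => by
    show (φ ≫ (act ρ g).appTop).hom a = φ.hom a
    rw [show φ ≫ (act ρ g).appTop = (Scheme.ΓSpecIso (CommRingCat.of A)).inv ≫ (act ρ g ≫ q).appTop by
      simp [φ], hact]
  haveI : SMulCommClass G A B := ⟨fun g a b => by
    rw [Algebra.smul_def, Algebra.smul_def, smul_mul']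
    exact congrArg (· * (g • b)) (hfix g a)⟩
  have hsq : ∀ g : G, act ρ g ≫ P.left.isoSpec.hom =
      P.left.isoSpec.hom ≫ Spec.map (CommRingCat.ofHom (MulSemiringAction.toRingHom G B g)) := fun g => by
    rw [show CommRingCat.ofHom (MulSemiringAction.toRingHom G B g) = (act ρ g).appTop from rfl]
    exact (Scheme.isoSpec_hom_naturality _).symm
  haveI : Module.FaithfullyFlat A B := by
    refine Module.FaithfullyFlat.of_comap_surjective fun p => ?_
    obtain ⟨y, hy⟩ := hP.1 p
    exact ⟨P.left.isoSpec.hom.base y, by rw [← hy]; exact congrArg (fun f : P.left ⟶ Spec (CommRingCat.of A) => f.base y) hφ⟩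
  refine ⟨B, inferInstance, algB, inferInstance, inferInstance, inferInstance, inferInstance, inferInstance,
    inferInstance, P.left.isoSpec, hφ, hsq, fun Ω _ _ φ₁ φ₂ h => ?_⟩
  let pt : (B →+* Ω) → (Spec (CommRingCat.of Ω) ⟶ P.left) := fun χ =>
    Spec.map (CommRingCat.ofHom χ) ≫ P.left.isoSpec.inv
  have hpt : ∀ χ, pt χ ≫ q = Spec.map (CommRingCat.ofHom (χ.comp (algebraMap A B))) := fun χ => by
    rw [← hφ, Category.assoc, Iso.inv_hom_id_assoc, ← Spec.map_comp]; rfl
  have hinj : ∀ χ χ', pt χ = pt χ' → χ = χ' := fun χ χ' e => by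
    have := Spec.map_injective ((cancel_mono P.left.isoSpec.inv).1 e)
    exact congrArg CommRingCat.Hom.hom this
  have hmove : ∀ g χ, pt χ ≫ act ρ g = pt (χ.comp (MulSemiringAction.toRingHom G B g)) := fun g χ => by
    rw [← cancel_mono P.left.isoSpec.hom]
    simp only [pt, Category.assoc, hsq, Iso.inv_hom_id_assoc, Iso.inv_hom_id, Category.comp_id]
    rw [← Spec.map_comp]; rfl
  obtain ⟨g, hg, hu⟩ := hP.2 Ω (pt φ₁ ≫ q) ⟨pt φ₁, rfl⟩ ⟨pt φ₂, by rw [hpt, hpt, h]⟩
  refine ⟨g, fun b => ?_, fun g' hg' => hu g' ?_⟩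
  · have h1 := hinj _ _ ((hmove g φ₁).symm.trans (congrArg Subtype.val hg))
    exact RingHom.congr_fun h1 b
  · refine Subtype.ext ((hmove g' φ₁).trans (congrArg pt (RingHom.ext hg')))

end Groth.Agent.GalTorsor
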